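import Groth.Prelude.Def_RelSpec
import Groth.Agent.QCohMod.Sections

/-!
# The relative spectrum of a quasi-coherent algebra: `gammaMap` is an isomorphism
-/

set_option backward.isDefEq.respectTransparency false

universe u

open CategoryTheory CategoryTheory.Limits AlgebraicGeometry TopologicalSpace Opposite

namespace Groth.RelSpecH

variable {S : Scheme.{u}} (A : RelSpec.QCAlg S)

theorem isIso_gammaAff (U : S.Opens) (hU : IsAffineOpen U) : IsIso (A.gammaAff U hU) := by
  have h1 : IsIso ((A.ι U hU).app (A.π ⁻¹ᵁ U)) :=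
    Scheme.Hom.isIso_app _ _ (A.π_preimage U hU).le
  have h2 : IsIso ((A.ι U hU).appLE (A.π ⁻¹ᵁ U) ⊤ (A.top_le_preimage U hU)) := by
    have h3 : A.ι U hU ⁻¹ᵁ (A.π ⁻¹ᵁ U) = ⊤ := top_le_iff.1 (A.top_le_preimage U hU)
    rw [Scheme.Hom.appLE, show (homOfLE (A.top_le_preimage U hU)) = eqToHom h3.symm from
      Subsingleton.elim _ _]
    infer_instance
  exact IsIso.comp_isIso' h2 inferInstance

/-- `π_* O_{Spec(A)} ⟶ A` is an isomorphism. -/
theorem isIso_gammaMap : IsIso A.gammaMap := by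
  let ℱ : Sheaf (Opens.grothendieckTopology S) CommRingCat.{u} :=
    (TopCat.Sheaf.pushforward CommRingCat.{u} A.π.base).obj A.spec.sheaf
  let ℱ' : Sheaf (Opens.grothendieckTopology S) CommRingCat.{u} := ⟨A.presheaf, A.isSheaf⟩
  let α : ℱ ⟶ ℱ' := ⟨A.gammaMap⟩
  have : IsIso ((Scheme.AffineZariskiSite.toOpensFunctor S).op.whiskerLeft A.gammaMap) := by
    rw [A.gammaMap_restrict]
    have : ∀ U, IsIso (A.gammaRestrict.app U) := fun U ↦ isIso_gammaAff A U.unop.1 U.unop.2
    exact NatIso.isIso_of_isIso_app _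
  have := Functor.IsCoverDense.iso_of_restrict_iso (G := Scheme.AffineZariskiSite.toOpensFunctor S)
    α this
  exact inferInstanceAs (IsIso ((sheafToPresheaf _ _).map α))

/-- The localization property of the sections of an algebra which is quasi-coherent as a module. -/
theorem isQC_of_isQCoh (B : Sheaf (Opens.grothendieckTopology S) CommRingCat.{u}) (φ : S.sheaf ⟶ B)
    (hB : Coh.IsQCoh ((SheafOfModules.restrictScalars
      ((sheafCompose (Opens.grothendieckTopology S) (forget₂ CommRingCat.{u} RingCat.{u})).map φ)).obj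
      (SheafOfModules.unit ((sheafCompose (Opens.grothendieckTopology S)
        (forget₂ CommRingCat.{u} RingCat.{u})).obj B)))) :
    RelSpec.IsQC B.obj φ.hom := by
  intro U hU r
  let M : S.Modules := (SheafOfModules.restrictScalars
      ((sheafCompose (Opens.grothendieckTopology S) (forget₂ CommRingCat.{u} RingCat.{u})).map φ)).obj
      (SheafOfModules.unit ((sheafCompose (Opens.grothendieckTopology S)
        (forget₂ CommRingCat.{u} RingCat.{u})).obj B))
  have : M.IsQuasicoherent := hB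
  let ρ : B.obj.obj (op U) →+* B.obj.obj (op (S.basicOpen r)) :=
    (B.obj.map (homOfLE (S.basicOpen_le r)).op).hom
  let := ρ.toAlgebra
  let r' : B.obj.obj (op U) := (φ.hom.app (op U)).hom r
  let r₀ : Γ(S, S.basicOpen r) := QCohMod.resFun S (S.basicOpen_le r) r
  have hr : ρ r' = (φ.hom.app (op (S.basicOpen r))).hom r₀ :=
    (ConcreteCategory.congr_hom (φ.hom.naturality (homOfLE (S.basicOpen_le r)).op) r).symm
  refine (isLocalization_iff _ _).2 ⟨?_, fun s ↦ ?_, fun {a b} hab ↦ ?_⟩
  · rintro ⟨_, n, rfl⟩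
    change IsUnit (ρ (r' ^ n))
    rw [map_pow, hr]
    refine IsUnit.pow n (IsUnit.map _ ?_)
    exact RingedSpace.isUnit_res_basicOpen S.toRingedSpace r
  · obtain ⟨n, t, ht⟩ := QCohMod.exists_pow_smul_eq_res M hU r s
    refine ⟨⟨t, ⟨r' ^ n, n, rfl⟩⟩, ?_⟩
    change s * ρ (r' ^ n) = ρ t
    refine Eq.trans ?_ ht.symm
    rw [map_pow, hr, ← map_pow, mul_comm]
    rfl
  · have h0 : QCohMod.res M (S.basicOpen_le r) (a - b) = 0 := by
      rw [map_sub]
      exact sub_eq_zero.2 hab
    obtain ⟨n, hn⟩ := QCohMod.exists_pow_smul_eq_zero M hU r (a - b) h0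
    refine ⟨⟨r' ^ n, n, rfl⟩, sub_eq_zero.1 ?_⟩
    change r' ^ n * a - r' ^ n * b = 0
    rw [← mul_sub, ← map_pow]
    exact hn

end Groth.RelSpecH
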